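import Groth.Agent.Sga7.H479.WeakNeron

/-!
# The weak Néron mapping property, in terms of cartesian squares

`R` a strictly henselian discrete valuation ring, `K` a fraction field of `R`.

* `exists_extension`: `f : Z_K ⟶ A` extends to a neighbourhood of a generic point `ζ` of the closed fibre of a smooth
  `Z`, with values in one of finitely many charts `X i`, if every `K`-point of `A` comes from a section of some `X i`.
* `exists_lift_stalk`: the local version: a point of `A` with values in the fraction field of `𝒪_{Z,ζ}` comes from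
  a point of some `X i` with values in `𝒪_{Z,ζ}`.
-/

set_option autoImplicit false

universe u w

open CategoryTheory CategoryTheory.Limits AlgebraicGeometry

namespace Groth.Agent.Sga7.H479.WeakNeron

open Groth.Agent.Dix Groth.Agent.Dix.GenOpen

section Spec

variable (R : Type u) [CommRing R] [IsDomain R] [IsDiscreteValuationRing R]
  (K : Type u) [Field K] [Algebra R K] [IsFractionRing R K]

/-- `Spec K ⟶ Spec R`. -/
noncomputable abbrev sp (R K : Type u) [CommRing R] [Field K] [Algebra R K] :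
    Spec (CommRingCat.of K) ⟶ Spec (CommRingCat.of R) :=
  Spec.map (CommRingCat.ofHom (algebraMap R K))

/-- `Spec K ≅ Spec (FractionRing R)`. -/
noncomputable def specIso : Spec (CommRingCat.of K) ≅ Spec (CommRingCat.of (FractionRing R)) :=
  Scheme.Spec.mapIso (FractionRing.algEquiv R K).toRingEquiv.toCommRingCatIso.op

omit [IsDomain R] [IsDiscreteValuationRing R] in
theorem specIso_hom_genPt : (specIso R K).hom ≫ Neron.genPt R = sp R K := by
  change Spec.map _ ≫ Spec.map _ = Spec.map _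
  rw [← Spec.map_comp]
  congr 1
  ext x
  exact (FractionRing.algEquiv R K).commutes x

omit [IsDomain R] [IsDiscreteValuationRing R] in
theorem specIso_inv_sp : (specIso R K).inv ≫ sp R K = Neron.genPt R := by
  rw [← specIso_hom_genPt, Iso.inv_hom_id_assoc]

theorem isOpenImmersion_sp : IsOpenImmersion (sp R K) := by
  rw [← specIso_hom_genPt]
  infer_instance

theorem opensRange_sp : Set.range (sp R K) = (genOpen R : Set (Spec (CommRingCat.of R))) := by
  rw [← opensRange_genPt, ← specIso_hom_genPt]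
  ext x
  constructor
  · rintro ⟨z, rfl⟩
    exact ⟨(specIso R K).hom z, (Scheme.Hom.comp_apply _ _ _).symm⟩
  · rintro ⟨z, rfl⟩
    refine ⟨(specIso R K).inv z, ?_⟩
    rw [← Scheme.Hom.comp_apply, Iso.inv_hom_id_assoc]

variable {R K}
variable {Y YK : Scheme.{u}} {j : YK ⟶ Y} {yK : YK ⟶ Spec (CommRingCat.of K)}
  {y : Y ⟶ Spec (CommRingCat.of R)}

theorem isOpenImmersion_of_isPullback (h : IsPullback j yK y (sp R K)) : IsOpenImmersion j := by
  have := isOpenImmersion_sp R K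
  exact MorphismProperty.of_isPullback h.flip this

theorem range_of_isPullback (h : IsPullback j yK y (sp R K)) :
    Set.range j = (y ⁻¹ᵁ genOpen R : Y.Opens) := by
  have h1 : j = h.isoPullback.hom ≫ pullback.fst y (sp R K) := by simp
  have h2 : Set.range j = Set.range (pullback.fst y (sp R K)) := by
    rw [h1]
    ext x
    constructor
    · rintro ⟨z, rfl⟩
      exact ⟨h.isoPullback.hom z, (Scheme.Hom.comp_apply _ _ _).symm⟩
    · rintro ⟨z, rfl⟩
      refine ⟨h.isoPullback.inv z, ?_⟩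
      rw [← Scheme.Hom.comp_apply, Iso.inv_hom_id_assoc]
  rw [h2, Scheme.Pullback.range_fst, opensRange_sp]
  rfl

/-- The generic fibre given by a cartesian square is the open generic fibre. -/
noncomputable def genIso (h : IsPullback j yK y (sp R K)) :
    YK ≅ (y ⁻¹ᵁ genOpen R : Y.Opens).toScheme :=
  have := isOpenImmersion_of_isPullback h
  IsOpenImmersion.isoOfRangeEq j (y ⁻¹ᵁ genOpen R).ι
    ((range_of_isPullback h).trans (Scheme.Opens.range_ι _).symm)

theorem genIso_hom (h : IsPullback j yK y (sp R K)) :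
    (genIso h).hom ≫ (y ⁻¹ᵁ genOpen R).ι = j :=
  have := isOpenImmersion_of_isPullback h
  IsOpenImmersion.isoOfRangeEq_hom_fac j (y ⁻¹ᵁ genOpen R).ι
    ((range_of_isPullback h).trans (Scheme.Opens.range_ι _).symm)

theorem genIso_inv (h : IsPullback j yK y (sp R K)) :
    (genIso h).inv ≫ j = (y ⁻¹ᵁ genOpen R).ι := by
  rw [Iso.inv_comp_eq, genIso_hom h]

end Spec

variable {R : Type u} [CommRing R] [IsDomain R] [IsDiscreteValuationRing R]
  (K : Type u) [Field K] [Algebra R K] [IsFractionRing R K]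

/-- The weak Néron mapping property at a point of codimension at most one: general form. -/
theorem exists_extension_of_not_two_le (hR : EtCoh.IsStrictlyHenselianLocalRing R)
    {A : Scheme.{u}} (a : A ⟶ Spec (CommRingCat.of K)) [IsSeparated a]
    {ι : Type w} [Finite ι] {X XK : ι → Scheme.{u}} (x : ∀ i, X i ⟶ Spec (CommRingCat.of R))
    [∀ i, LocallyOfFiniteType (x i)] [∀ i, QuasiCompact (x i)]
    (jX : ∀ i, XK i ⟶ X i) (xK : ∀ i, XK i ⟶ Spec (CommRingCat.of K))
    (hX : ∀ i, IsPullback (jX i) (xK i) (x i) (sp R K))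
    (φ : ∀ i, XK i ⟶ A) (hφ : ∀ i, φ i ≫ a = xK i) [∀ i, IsOpenImmersion (φ i)]
    (H : ∀ s : Spec (CommRingCat.of K) ⟶ A, s ≫ a = 𝟙 _ →
      ∃ i, ∃ t : Spec (CommRingCat.of R) ⟶ X i, t ≫ x i = 𝟙 _ ∧
        ∃ tK : Spec (CommRingCat.of K) ⟶ XK i, tK ≫ jX i = sp R K ≫ t ∧ tK ≫ φ i = s)
    {Z ZK : Scheme.{u}} (z : Z ⟶ Spec (CommRingCat.of R)) [Smooth z]
    (jZ : ZK ⟶ Z) (zK : ZK ⟶ Spec (CommRingCat.of K)) (hZ : IsPullback jZ zK z (sp R K))
    (f : ZK ⟶ A) (hf : f ≫ a = zK)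
    (ζ : Z) (hζ : z ζ = IsLocalRing.closedPoint R)
    (hζ2 : ¬ (2 : WithBot ℕ∞) ≤ ringKrullDim (Z.presheaf.stalk ζ)) :
    ∃ (i : ι) (U : Z.Opens) (_ : ζ ∈ U) (g : U.toScheme ⟶ X i), g ≫ x i = U.ι ≫ z ∧
      ∀ (T : Scheme.{u}) (t : T ⟶ U.toScheme) (s : T ⟶ ZK) (r : T ⟶ XK i),
        s ≫ jZ = t ≫ U.ι → r ≫ jX i = t ≫ g → r ≫ φ i = s ≫ f := by
  have hsp := isOpenImmersion_sp R K
  have hfo : ∀ i, IsOpenImmersion ((genIso (hX i)).inv ≫ φ i) := fun i => inferInstance
  obtain ⟨i, U, hU, g, hg, hg'⟩ := exists_open hR x (a ≫ sp R K)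
    (fun i => (genIso (hX i)).inv ≫ φ i)
    (fun i => by
      rw [Category.assoc, ← Category.assoc (φ i), hφ, ← (hX i).w, ← Category.assoc, genIso_inv])
    (fun b hb => by
      obtain ⟨i, t, ht, tK, h1, h2⟩ := H ((specIso R K).hom ≫ b) (by
        rw [← cancel_mono (sp R K), Category.assoc, Category.assoc, hb, specIso_hom_genPt,
          Category.id_comp])
      refine ⟨i, t, (specIso R K).inv ≫ tK ≫ (genIso (hX i)).hom, ht, ?_, ?_⟩
      · rw [Category.assoc, Category.assoc, genIso_hom, h1, ← Category.assoc, specIso_inv_sp]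
      · rw [Category.assoc, Category.assoc, Iso.hom_inv_id_assoc, h2, Iso.inv_hom_id_assoc])
    z ((genIso hZ).inv ≫ f) (by
      rw [Category.assoc, ← Category.assoc f, hf, ← hZ.w, ← Category.assoc, genIso_inv]) ζ hζ hζ2
  refine ⟨i, U, hU, g, hg, fun T t s r hs hr => ?_⟩
  have h1 := hg' T t (s ≫ (genIso hZ).hom) (r ≫ (genIso (hX i)).hom)
    (by rw [Category.assoc, genIso_hom, hs]) (by rw [Category.assoc, genIso_hom, hr])
  rw [Category.assoc, Iso.hom_inv_id_assoc, Category.assoc, Iso.hom_inv_id_assoc] at h1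
  exact h1

/-- The weak Néron mapping property at a generic point of the closed fibre. -/
theorem exists_extension [HenselianLocalRing R] [IsSepClosed (IsLocalRing.ResidueField R)]
    {A : Scheme.{u}} (a : A ⟶ Spec (CommRingCat.of K)) [IsSeparated a]
    {ι : Type w} [Finite ι] {X XK : ι → Scheme.{u}} (x : ∀ i, X i ⟶ Spec (CommRingCat.of R))
    [∀ i, LocallyOfFiniteType (x i)] [∀ i, QuasiCompact (x i)]
    (jX : ∀ i, XK i ⟶ X i) (xK : ∀ i, XK i ⟶ Spec (CommRingCat.of K))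
    (hX : ∀ i, IsPullback (jX i) (xK i) (x i) (Spec.map (CommRingCat.ofHom (algebraMap R K))))
    (φ : ∀ i, XK i ⟶ A) (hφ : ∀ i, φ i ≫ a = xK i) [∀ i, IsOpenImmersion (φ i)]
    (H : ∀ s : Spec (CommRingCat.of K) ⟶ A, s ≫ a = 𝟙 _ →
      ∃ i, ∃ t : Spec (CommRingCat.of R) ⟶ X i, t ≫ x i = 𝟙 _ ∧
        ∃ tK : Spec (CommRingCat.of K) ⟶ XK i,
          tK ≫ jX i = Spec.map (CommRingCat.ofHom (algebraMap R K)) ≫ t ∧ tK ≫ φ i = s)
    {Z ZK : Scheme.{u}} (z : Z ⟶ Spec (CommRingCat.of R)) [Smooth z]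
    (jZ : ZK ⟶ Z) (zK : ZK ⟶ Spec (CommRingCat.of K))
    (hZ : IsPullback jZ zK z (Spec.map (CommRingCat.ofHom (algebraMap R K))))
    (f : ZK ⟶ A) (hf : f ≫ a = zK)
    (ζ : Z) (hζ : z ζ = IsLocalRing.closedPoint R)
    (hζ' : ∀ y, y ⤳ ζ → z y = IsLocalRing.closedPoint R → y = ζ) :
    ∃ (i : ι) (U : Z.Opens) (_ : ζ ∈ U) (g : U.toScheme ⟶ X i)
      (gK : (jZ ⁻¹ᵁ U).toScheme ⟶ XK i), g ≫ x i = U.ι ≫ z ∧ gK ≫ jX i = (jZ ∣_ U) ≫ g ∧
        gK ≫ φ i = (jZ ⁻¹ᵁ U).ι ≫ f ∧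
        ∀ (T : Scheme.{u}) (t : T ⟶ U.toScheme) (s : T ⟶ ZK) (r : T ⟶ XK i),
          s ≫ jZ = t ≫ U.ι → r ≫ jX i = t ≫ g → r ≫ φ i = s ≫ f := by
  have hR : EtCoh.IsStrictlyHenselianLocalRing R := ⟨inferInstance, inferInstance⟩
  obtain ⟨i, U, hU, g, hg, hg'⟩ := exists_extension_of_not_two_le K hR a x jX xK hX φ hφ H z jZ zK hZ f hf
    ζ hζ (not_two_le z ζ hζ hζ')
  have h1 : ((jZ ∣_ U) ≫ g) ≫ x i = ((jZ ⁻¹ᵁ U).ι ≫ zK) ≫ sp R K := by
    rw [Category.assoc, hg, ← Category.assoc, morphismRestrict_ι, Category.assoc, Category.assoc, hZ.w]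
  refine ⟨i, U, hU, g, (hX i).lift _ _ h1, hg, (hX i).lift_fst _ _ h1, ?_, hg'⟩
  exact hg' _ (jZ ∣_ U) (jZ ⁻¹ᵁ U).ι _ (morphismRestrict_ι _ _).symm ((hX i).lift_fst _ _ h1)

omit [IsDomain R] [IsDiscreteValuationRing R] in
/-- In a domain, between `0` and a prime of height at most one there is no prime. -/
theorem eq_of_le_of_ne_bot (B : CommRingCat.{u}) [IsDomain B] (y : Spec B)
    (hy2 : ¬ (2 : WithBot ℕ∞) ≤ ringKrullDim ((Spec B).presheaf.stalk y)) (Q : Ideal B) [Q.IsPrime]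
    (hQ : Q ≠ ⊥) (hQy : Q ≤ y.asIdeal) : Q = y.asIdeal := by
  by_contra hne
  have hlt : Q < y.asIdeal := lt_of_le_of_ne hQy hne
  have hbot : (⊥ : Ideal B) < Q := bot_lt_iff_ne_bot.2 hQ
  apply hy2
  let _ : Algebra B ((Spec B).presheaf.stalk y) := StructureSheaf.stalkAlgebra B y
  have : IsLocalization.AtPrime ((Spec B).presheaf.stalk y) y.asIdeal :=
    StructureSheaf.IsLocalization.to_stalk B y
  rw [IsLocalization.AtPrime.ringKrullDim_eq_height y.asIdeal ((Spec B).presheaf.stalk y)]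
  have h3 : (⊥ : Ideal B).height + 1 ≤ Q.height :=
    Ideal.height_add_one_le_of_lt_of_isPrime hbot
  have h4 : Q.height + 1 ≤ y.asIdeal.height :=
    Ideal.height_add_one_le_of_lt_of_isPrime hlt
  have h5 : (2 : ℕ∞) ≤ y.asIdeal.height := by
    calc (2 : ℕ∞) = 0 + 1 + 1 := by norm_num
      _ ≤ (⊥ : Ideal B).height + 1 + 1 := by gcongr; exact zero_le
      _ ≤ Q.height + 1 := by gcongr
      _ ≤ _ := h4
  exact WithBot.coe_le_coe.2 h5

/-- A point of codimension at most one of the closed fibre has a neighbourhood whose generic fibre is contained in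
a given non-empty open. -/
theorem exists_nhd_le (B : CommRingCat.{u}) [IsDomain B] (p : Spec B ⟶ Spec (CommRingCat.of R))
    (y : Spec B) (hyc : p y = IsLocalRing.closedPoint R)
    (hy2 : ¬ (2 : WithBot ℕ∞) ≤ ringKrullDim ((Spec B).presheaf.stalk y))
    (D : (Spec B).Opens) (hD : genericPoint (Spec B) ∈ D) :
    ∃ W : (Spec B).Opens, y ∈ W ∧ W ⊓ p ⁻¹ᵁ genOpen R ≤ D := by
  obtain ⟨φ, rfl⟩ := Spec.map_surjective p
  obtain ⟨ϖ, hϖ⟩ := IsDiscreteValuationRing.exists_irreducible R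
  have hmx : ∀ z : Spec B, Spec.map φ z = IsLocalRing.closedPoint R ↔ φ.hom ϖ ∈ z.asIdeal := by
    intro z
    constructor
    · intro hz
      have h1 : ϖ ∈ (IsLocalRing.closedPoint R).asIdeal := by
        change ϖ ∈ IsLocalRing.maximalIdeal R
        rw [IsLocalRing.mem_maximalIdeal]
        exact hϖ.not_isUnit
      rw [← hz] at h1
      exact h1
    · intro hz
      by_contra h1
      have h2 := eq_bot_of_ne_closedPoint R (Spec.map φ z) h1
      have h3 : ϖ ∈ (Spec.map φ z).asIdeal := hz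
      rw [h2] at h3
      exact hϖ.ne_zero h3
  obtain ⟨_, ⟨b, rfl⟩, hb, hbD⟩ :=
    PrimeSpectrum.isTopologicalBasis_basic_opens.exists_subset_of_mem_open hD D.2
  have hb0 : b ≠ 0 := by
    rintro rfl
    exact hb (Ideal.zero_mem _)
  by_cases hby : b ∈ y.asIdeal
  · have hdis : ¬ Disjoint ((Ideal.span {b} : Ideal B) : Set B)
        ((y.asIdeal.primeCompl ⊔ Submonoid.powers (φ.hom ϖ) : Submonoid B) : Set B) := by
      intro hdis
      obtain ⟨Q, hQ, hbQ, hQd⟩ := Ideal.exists_le_prime_disjoint _ _ hdis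
      have h1 : b ∈ Q := hbQ (Ideal.mem_span_singleton_self b)
      have h2 : Q ≤ y.asIdeal := by
        intro c hc
        by_contra hcy
        exact Set.disjoint_left.1 hQd hc ((le_sup_left : y.asIdeal.primeCompl ≤ _) hcy)
      have h3 : Q = y.asIdeal := eq_of_le_of_ne_bot B y hy2 Q (by rintro rfl; exact hb0 h1) h2
      have h4 : φ.hom ϖ ∈ Q := by rw [h3]; exact (hmx y).1 hyc
      exact Set.disjoint_left.1 hQd h4
        ((le_sup_right : Submonoid.powers (φ.hom ϖ) ≤ _) (Submonoid.mem_powers _))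
    rw [Set.not_disjoint_iff] at hdis
    obtain ⟨c, hc1, hc2⟩ := hdis
    obtain ⟨s, hs, _, ⟨n, rfl⟩, rfl⟩ := Submonoid.mem_sup.1 hc2
    refine ⟨PrimeSpectrum.basicOpen s, hs, ?_⟩
    rintro z ⟨hz1, hz2⟩
    refine hbD ?_
    intro hbz
    have h1 : s * (φ.hom ϖ) ^ n ∈ z.asIdeal :=
      (Ideal.span_singleton_le_iff_mem _).2 hbz hc1
    rcases z.isPrime.mem_or_mem h1 with h2 | h2
    · exact hz1 h2
    · exact hz2 ((hmx z).2 (z.isPrime.mem_of_pow_mem _ h2))
  · refine ⟨PrimeSpectrum.basicOpen b, hby, ?_⟩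
    exact inf_le_left.trans (fun z hz => hbD hz)

/-- The weak Néron mapping property at a point of codimension at most one of an affine integral smooth scheme: points
with values in the function field extend to the local ring. -/
theorem exists_lift_functionField (hR : EtCoh.IsStrictlyHenselianLocalRing R)
    {ι : Type w} [Finite ι] {X : ι → Scheme.{u}} (q : ∀ i, X i ⟶ Spec (CommRingCat.of R))
    [∀ i, QuasiCompact (q i)]
    {A : Scheme.{u}} (a : A ⟶ Spec (CommRingCat.of R)) [LocallyOfFiniteType a]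
    (j : ∀ i, (q i ⁻¹ᵁ genOpen R : (X i).Opens).toScheme ⟶ A) [∀ i, IsOpenImmersion (j i)]
    (hj : ∀ i, j i ≫ a = (q i ⁻¹ᵁ genOpen R).ι ≫ q i)
    (hA : ∀ b : Spec (CommRingCat.of (FractionRing R)) ⟶ A, b ≫ a = Neron.genPt R →
      ∃ (i : ι) (x : Spec (CommRingCat.of R) ⟶ X i)
        (x' : Spec (CommRingCat.of (FractionRing R)) ⟶ (q i ⁻¹ᵁ genOpen R : (X i).Opens).toScheme),
        x ≫ q i = 𝟙 _ ∧ x' ≫ (q i ⁻¹ᵁ genOpen R).ι = Neron.genPt R ≫ x ∧ x' ≫ j i = b)
    (B : CommRingCat.{u}) [IsDomain B] (p : Spec B ⟶ Spec (CommRingCat.of R)) [Smooth p]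
    (y : Spec B) (hyc : p y = IsLocalRing.closedPoint R)
    (hy2 : ¬ (2 : WithBot ℕ∞) ≤ ringKrullDim ((Spec B).presheaf.stalk y))
    (P : Spec (Spec B).functionField ⟶ A)
    (hP : P ≫ a = (Spec B).fromSpecStalk (genericPoint (Spec B)) ≫ p) :
    ∃ (i : ι) (l : Spec ((Spec B).presheaf.stalk y) ⟶ X i)
      (g : Spec (Spec B).functionField ⟶ (q i ⁻¹ᵁ genOpen R : (X i).Opens).toScheme),
      l ≫ q i = (Spec B).fromSpecStalk y ≫ p ∧
      Spec.map ((Spec B).presheaf.stalkSpecializes (genericPoint_specializes y)) ≫ l =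
        g ≫ (q i ⁻¹ᵁ genOpen R).ι ∧
      g ≫ j i = P := by
  obtain ⟨D, hD, f₀, h1, h2⟩ := spread_out_of_isGermInjective' p a P hP
  obtain ⟨W, hyW, hW⟩ := exists_nhd_le B p y hyc hy2 D hD
  obtain ⟨i, l, g, h3, h4, h5⟩ := exists_lift_stalk hR q a j hj hA B p D f₀ h2 y hyc hy2 W hyW hW
    (D.fromSpecStalkOfMem (genericPoint (Spec B)) hD) (Scheme.Opens.fromSpecStalkOfMem_ι _ _ _)
  exact ⟨i, l, g, h3, h4, h5.trans h1.symm⟩

end Groth.Agent.Sga7.H479.WeakNeron
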