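import Groth.Agent.Dix.QCClosure
import Groth.Agent.Dix.GenOpen
import Groth.Agent.Dix.HenselPoints
import Mathlib.AlgebraicGeometry.Birational.RationalMap

/-!
# The weak Néron mapping property

`R` a strictly henselian discrete valuation ring, `K` its fraction field, `A` a scheme over `K` and `X i`
finitely many `R`-schemes with open immersions `(X i)_K ⟶ A` such that every `K`-point of `A` comes from an
`R`-point of some `X i`. Then for every smooth `Z` over `R`, every `K`-morphism `f : Z_K ⟶ A` and every point `y`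
of the closed fibre with `dim 𝒪_{Z,y} ≤ 1`, `f` extends to a morphism from a neighbourhood of `y` to some `X i`.
-/

set_option autoImplicit false

universe u w

open CategoryTheory CategoryTheory.Limits AlgebraicGeometry

namespace Groth.Agent.Sga7.H479.WeakNeron

open Groth.Agent.Dix Groth.Agent.Dix.GenOpen

variable {R : Type u} [CommRing R] [IsDomain R] [IsDiscreteValuationRing R]

/-- In the spectrum of a domain flat over a discrete valuation ring, a point `y` whose local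
ring has dimension `< 2` has no proper generization in the closed fibre. -/
theorem eq_of_specializes
    (B : CommRingCat.{u}) [IsDomain B] (p : Spec B ⟶ Spec (CommRingCat.of R)) [Smooth p]
    (y : Spec B) (h2 : ¬ (2 : WithBot ℕ∞) ≤ ringKrullDim ((Spec B).presheaf.stalk y))
    (y' : Spec B) (hy' : p y' = IsLocalRing.closedPoint R) (hs : y' ⤳ y) : y' = y := by
  have hle : y'.asIdeal ≤ y.asIdeal := (PrimeSpectrum.le_iff_specializes _ _).2 hs
  by_contra hne
  have hlt : y'.asIdeal < y.asIdeal := lt_of_le_of_ne hle (fun h => hne (PrimeSpectrum.ext h))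
  have hbot : (⊥ : Ideal B) < y'.asIdeal := by
    rw [bot_lt_iff_ne_bot]
    intro h0
    obtain ⟨y'', h3, h4⟩ := exists_specializes p y'
    have h5 : y''.asIdeal ≤ y'.asIdeal := (PrimeSpectrum.le_iff_specializes _ _).2 h4
    rw [h0, le_bot_iff] at h5
    have h6 : y'' = y' := PrimeSpectrum.ext (h5.trans h0.symm)
    rw [h6] at h3
    exact h3 hy'
  apply h2
  let _ : Algebra B ((Spec B).presheaf.stalk y) := StructureSheaf.stalkAlgebra B y
  have : IsLocalization.AtPrime ((Spec B).presheaf.stalk y) y.asIdeal :=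
    StructureSheaf.IsLocalization.to_stalk B y
  rw [IsLocalization.AtPrime.ringKrullDim_eq_height y.asIdeal ((Spec B).presheaf.stalk y)]
  have h3 : (⊥ : Ideal B).height + 1 ≤ y'.asIdeal.height :=
    Ideal.height_add_one_le_of_lt_of_isPrime hbot
  have h4 : y'.asIdeal.height + 1 ≤ y.asIdeal.height :=
    Ideal.height_add_one_le_of_lt_of_isPrime hlt
  have h5 : (2 : ℕ∞) ≤ y.asIdeal.height := by
    calc (2 : ℕ∞) = 0 + 1 + 1 := by norm_num
      _ ≤ (⊥ : Ideal B).height + 1 + 1 := by gcongr; exact zero_le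
      _ ≤ y'.asIdeal.height + 1 := by gcongr
      _ ≤ _ := h4
  exact WithBot.coe_le_coe.2 h5

/-- The weak Néron mapping property at a codimension one point of an affine integral smooth scheme: lifting over
the local ring. -/
theorem exists_lift_stalk (hR : EtCoh.IsStrictlyHenselianLocalRing R)
    {ι : Type w} [Finite ι] {X : ι → Scheme.{u}} (q : ∀ i, X i ⟶ Spec (CommRingCat.of R))
    [∀ i, QuasiCompact (q i)]
    {A : Scheme.{u}} (a : A ⟶ Spec (CommRingCat.of R))
    (j : ∀ i, (q i ⁻¹ᵁ genOpen R : (X i).Opens).toScheme ⟶ A) [∀ i, IsOpenImmersion (j i)]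
    (hj : ∀ i, j i ≫ a = (q i ⁻¹ᵁ genOpen R).ι ≫ q i)
    (hA : ∀ b : Spec (CommRingCat.of (FractionRing R)) ⟶ A, b ≫ a = Neron.genPt R →
      ∃ (i : ι) (x : Spec (CommRingCat.of R) ⟶ X i)
        (x' : Spec (CommRingCat.of (FractionRing R)) ⟶ (q i ⁻¹ᵁ genOpen R : (X i).Opens).toScheme),
        x ≫ q i = 𝟙 _ ∧ x' ≫ (q i ⁻¹ᵁ genOpen R).ι = Neron.genPt R ≫ x ∧ x' ≫ j i = b)
    (B : CommRingCat.{u}) [IsDomain B] (p : Spec B ⟶ Spec (CommRingCat.of R)) [Smooth p]
    (D : (Spec B).Opens)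
    (f₀ : D.toScheme ⟶ A) (hf₀ : f₀ ≫ a = D.ι ≫ p)
    (y : Spec B) (hyc : p y = IsLocalRing.closedPoint R)
    (hy2 : ¬ (2 : WithBot ℕ∞) ≤ ringKrullDim ((Spec B).presheaf.stalk y))
    (W₀ : (Spec B).Opens) (hyW₀ : y ∈ W₀) (hD : W₀ ⊓ p ⁻¹ᵁ genOpen R ≤ D)
    (t : Spec (Spec B).functionField ⟶ D.toScheme)
    (ht : t ≫ D.ι = (Spec B).fromSpecStalk (genericPoint (Spec B))) :
    ∃ (i : ι) (l : Spec ((Spec B).presheaf.stalk y) ⟶ X i)
      (g : Spec (Spec B).functionField ⟶ (q i ⁻¹ᵁ genOpen R : (X i).Opens).toScheme),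
      l ≫ q i = (Spec B).fromSpecStalk y ≫ p ∧
      Spec.map ((Spec B).presheaf.stalkSpecializes (genericPoint_specializes y)) ≫ l =
        g ≫ (q i ⁻¹ᵁ genOpen R).ι ∧
      g ≫ j i = t ≫ f₀ := by
  let η : D.toScheme := t (IsLocalRing.closedPoint _)
  have hη : D.ι η = genericPoint (Spec B) := by
    rw [← Scheme.Hom.comp_apply, ht, Scheme.fromSpecStalk_closedPoint]
  have hηs : ∀ d : D.toScheme, η ⤳ d := by
    intro d
    rw [← D.ι.isOpenEmbedding.isInducing.specializes_iff, hη]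
    exact genericPoint_specializes _
  let V : ∀ i, D.toScheme.Opens := fun i => f₀ ⁻¹ᵁ (j i).opensRange
  -- the graph over `V i`
  let r : ∀ i, (V i).toScheme ⟶ (q i ⁻¹ᵁ genOpen R : (X i).Opens).toScheme := fun i =>
    IsOpenImmersion.lift (j i) ((V i).ι ≫ f₀) (by
      rintro _ ⟨v, rfl⟩
      exact v.2)
  have hr : ∀ i, r i ≫ j i = (V i).ι ≫ f₀ := fun i => IsOpenImmersion.lift_fac _ _ _
  let γ : ∀ i, (V i).toScheme ⟶ pullback p (q i) := fun i =>
    pullback.lift ((V i).ι ≫ D.ι) (r i ≫ (q i ⁻¹ᵁ genOpen R).ι) (by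
      rw [Category.assoc, Category.assoc, ← hj, ← Category.assoc (r i), hr, Category.assoc, hf₀])
  -- the generic point as a point of `V i`
  have htV : ∀ i, η ∈ V i → Set.range t ⊆ Set.range (V i).ι := by
    intro i hi
    rw [Scheme.Opens.range_ι]
    rintro _ ⟨z, rfl⟩
    have : z = IsLocalRing.closedPoint _ := Subsingleton.elim (α := PrimeSpectrum _) _ _
    rw [this]
    exact hi
  let ti : ∀ i, η ∈ V i → (Spec (Spec B).functionField ⟶ (V i).toScheme) := fun i hi =>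
    IsOpenImmersion.lift (V i).ι t (htV i hi)
  have hti : ∀ i hi, ti i hi ≫ (V i).ι = t := fun i hi => IsOpenImmersion.lift_fac _ _ _
  let G : ∀ i, η ∈ V i → (Spec (Spec B).functionField ⟶ pullback p (q i)) := fun i hi =>
    ti i hi ≫ γ i
  have hG : ∀ i hi, G i hi ≫ pullback.fst p (q i) = (Spec B).fromSpecStalk (genericPoint (Spec B)) := by
    intro i hi
    rw [Category.assoc, pullback.lift_fst, ← Category.assoc, hti i hi, ht]
  let W : ∀ i : {i : ι // η ∈ V i}, Set ↑(pullback p (q i.1)) := fun i =>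
    closure {G i.1 i.2 (IsLocalRing.closedPoint _)} ∩
      (pullback.fst p (q i.1) ≫ p) ⁻¹' {IsLocalRing.closedPoint R}
  have hW : ∀ i, IsClosed (W i) := fun i => isClosed_closure.inter
    ((IsLocalRing.isClosed_singleton_closedPoint R).preimage (pullback.fst p (q i.1) ≫ p).continuous)
  have hyW : y ∈ closure (⋃ i, pullback.fst p (q i.1) '' W i) := by
    rw [mem_closure_iff]
    intro O hO hyO
    obtain ⟨s, hs, hsO, hsW⟩ := HenselPoints.exists_section hR B p y hyc (⟨O, hO⟩ ⊓ W₀) ⟨hyO, hyW₀⟩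
    have hrange : Set.range (Neron.genPt R ≫ s) ⊆ Set.range D.ι := by
      rw [Scheme.Opens.range_ι]
      rintro _ ⟨z, rfl⟩
      have h1 : p ((Neron.genPt R ≫ s) z) ∈ genOpen R := by
        rw [← Scheme.Hom.comp_apply, Category.assoc, hs, Category.comp_id, ← opensRange_genPt]
        exact ⟨z, rfl⟩
      have h2 : (Neron.genPt R ≫ s) z ⤳ s (IsLocalRing.closedPoint R) := by
        rw [Scheme.Hom.comp_apply]
        exact (IsLocalRing.specializes_closedPoint (Neron.genPt R z)).map s.continuous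
      exact hD ⟨h2.mem_open W₀.2 hsW, h1⟩
    let s' : Spec (CommRingCat.of (FractionRing R)) ⟶ D.toScheme :=
      IsOpenImmersion.lift D.ι (Neron.genPt R ≫ s) hrange
    have hs' : s' ≫ D.ι = Neron.genPt R ≫ s := IsOpenImmersion.lift_fac _ _ _
    obtain ⟨i, x, x', hx, hx', hxj⟩ := hA (s' ≫ f₀) (by
      rw [Category.assoc, hf₀, ← Category.assoc, hs', Category.assoc, hs, Category.comp_id])
    let z : Spec (CommRingCat.of (FractionRing R)) := IsLocalRing.closedPoint (FractionRing R)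
    have hsV : ∀ z, s' z ∈ V i := by
      intro z
      change f₀ (s' z) ∈ (j i).opensRange
      rw [← Scheme.Hom.comp_apply, ← hxj]
      exact ⟨x' z, rfl⟩
    have hηi : η ∈ V i := (hηs (s' z)).mem_open (V i).2 (hsV z)
    let si : Spec (CommRingCat.of (FractionRing R)) ⟶ (V i).toScheme :=
      IsOpenImmersion.lift (V i).ι s' (by
        rw [Scheme.Opens.range_ι]
        rintro _ ⟨z, rfl⟩
        exact hsV z)
    have hsi : si ≫ (V i).ι = s' := IsOpenImmersion.lift_fac _ _ _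
    have hsir : si ≫ r i = x' := by
      rw [← cancel_mono (j i), Category.assoc, hr, ← Category.assoc, hsi, hxj]
    let c : Spec (CommRingCat.of R) ⟶ pullback p (q i) := pullback.lift s x (by rw [hs, hx])
    have hc : Neron.genPt R ≫ c = si ≫ γ i := by
      apply pullback.hom_ext
      · rw [Category.assoc, Category.assoc, pullback.lift_fst, pullback.lift_fst, ← Category.assoc si,
          hsi, hs']
      · rw [Category.assoc, Category.assoc, pullback.lift_snd, pullback.lift_snd, ← Category.assoc si,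
          hsir, hx']
    have h1 : G i hηi (IsLocalRing.closedPoint _) ⤳ γ i (si z) := by
      have h2 : ti i hηi (IsLocalRing.closedPoint _) ⤳ si z := by
        rw [← (V i).ι.isOpenEmbedding.isInducing.specializes_iff, ← Scheme.Hom.comp_apply, hti i hηi,
          ← Scheme.Hom.comp_apply, hsi]
        exact hηs _
      exact h2.map (γ i).continuous
    have h2 : γ i (si z) ⤳ c (IsLocalRing.closedPoint R) := by
      have h3 : γ i (si z) = c (Neron.genPt R z) := by
        rw [← Scheme.Hom.comp_apply, ← Scheme.Hom.comp_apply, hc]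
      rw [h3]
      exact (IsLocalRing.specializes_closedPoint (Neron.genPt R z)).map c.continuous
    refine ⟨s (IsLocalRing.closedPoint R), hsO, Set.mem_iUnion.2 ⟨⟨i, hηi⟩,
      c (IsLocalRing.closedPoint R), ⟨?_, ?_⟩, ?_⟩⟩
    · exact (h1.trans h2).mem_closure
    · change (pullback.fst p (q i) ≫ p) (c (IsLocalRing.closedPoint R)) = _
      rw [← Scheme.Hom.comp_apply]
      have : c ≫ pullback.fst p (q i) ≫ p = 𝟙 _ := by
        rw [← Category.assoc, pullback.lift_fst, hs]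
      rw [this]
      rfl
    · rw [← Scheme.Hom.comp_apply, pullback.lift_fst]
  rw [closure_iUnion_of_finite, Set.mem_iUnion] at hyW
  obtain ⟨⟨i, hηi⟩, hyi⟩ := hyW
  have hqc : QuasiCompact (pullback.fst p (q i)) := inferInstance
  obtain ⟨ξ, ⟨hξ1, hξ2⟩, hξ3⟩ :=
    QCClosure.exists_specializes_of_mem_closure_image (pullback.fst p (q i)) (W ⟨i, hηi⟩)
      (hW ⟨i, hηi⟩) y hyi
  have hξ2' : p (pullback.fst p (q i) ξ) = IsLocalRing.closedPoint R := hξ2
  have hξy : pullback.fst p (q i) ξ = y := eq_of_specializes B p y hy2 _ hξ2' hξ3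
  subst hξy
  obtain ⟨hd, hic⟩ := NormalLoc.stalk_of_smooth p (pullback.fst p (q i) ξ)
  have hnoeth : IsLocallyNoetherian (Spec B) := LocallyOfFiniteType.isLocallyNoetherian p
  have hval := (NormalLoc.valuationRing_of_not_two_le_ringKrullDim
    ((Spec B).presheaf.stalk (pullback.fst p (q i) ξ)) hy2).1
  obtain ⟨l, hl, hl'⟩ := QCClosure.exists_lift_of_specializes (pullback.fst p (q i)) (G i hηi)
    (hG i hηi) ξ (specializes_iff_mem_closure.2 hξ1)
  refine ⟨i, l ≫ pullback.snd p (q i), ti i hηi ≫ r i, ?_, ?_, ?_⟩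
  · rw [Category.assoc, ← pullback.condition, ← Category.assoc, hl]
  · rw [← Category.assoc, hl']
    change (ti i hηi ≫ γ i) ≫ _ = _
    rw [Category.assoc, pullback.lift_snd, Category.assoc]
  · rw [Category.assoc, hr, ← Category.assoc, hti i hηi]

/-- The weak Néron mapping property at a codimension one point of an affine integral smooth scheme. -/
theorem exists_open_affine (hR : EtCoh.IsStrictlyHenselianLocalRing R)
    {ι : Type w} [Finite ι] {X : ι → Scheme.{u}} (q : ∀ i, X i ⟶ Spec (CommRingCat.of R))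
    [∀ i, QuasiCompact (q i)] [∀ i, LocallyOfFiniteType (q i)]
    {A : Scheme.{u}} (a : A ⟶ Spec (CommRingCat.of R)) [IsSeparated a]
    (j : ∀ i, (q i ⁻¹ᵁ genOpen R : (X i).Opens).toScheme ⟶ A) [∀ i, IsOpenImmersion (j i)]
    (hj : ∀ i, j i ≫ a = (q i ⁻¹ᵁ genOpen R).ι ≫ q i)
    (hA : ∀ b : Spec (CommRingCat.of (FractionRing R)) ⟶ A, b ≫ a = Neron.genPt R →
      ∃ (i : ι) (x : Spec (CommRingCat.of R) ⟶ X i)
        (x' : Spec (CommRingCat.of (FractionRing R)) ⟶ (q i ⁻¹ᵁ genOpen R : (X i).Opens).toScheme),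
        x ≫ q i = 𝟙 _ ∧ x' ≫ (q i ⁻¹ᵁ genOpen R).ι = Neron.genPt R ≫ x ∧ x' ≫ j i = b)
    (B : CommRingCat.{u}) [IsDomain B] (p : Spec B ⟶ Spec (CommRingCat.of R)) [Smooth p]
    (D : (Spec B).Opens) (hD : D = p ⁻¹ᵁ genOpen R)
    (f₀ : D.toScheme ⟶ A) (hf₀ : f₀ ≫ a = D.ι ≫ p)
    (y : Spec B) (hyc : p y = IsLocalRing.closedPoint R)
    (hy2 : ¬ (2 : WithBot ℕ∞) ≤ ringKrullDim ((Spec B).presheaf.stalk y)) :
    ∃ (i : ι) (U : (Spec B).Opens) (_ : y ∈ U) (g : U.toScheme ⟶ X i), g ≫ q i = U.ι ≫ p ∧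
      ∀ (T : Scheme.{u}) (t : T ⟶ U.toScheme) (s : T ⟶ D.toScheme)
        (r : T ⟶ (q i ⁻¹ᵁ genOpen R : (X i).Opens).toScheme),
        s ≫ D.ι = t ≫ U.ι → r ≫ (q i ⁻¹ᵁ genOpen R).ι = t ≫ g → r ≫ j i = s ≫ f₀ := by
  have hgenD : genericPoint (Spec B) ∈ D := by
    have hd : Dense (D : Set (Spec B)) := by
      rw [hD]
      exact dense_preimage_genOpen p
    exact (genericPoint_specializes _).mem_open D.2 hd.nonempty.choose_spec
  let t₀ : Spec (Spec B).functionField ⟶ D.toScheme :=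
    D.fromSpecStalkOfMem (genericPoint (Spec B)) hgenD
  have ht₀ : t₀ ≫ D.ι = (Spec B).fromSpecStalk (genericPoint (Spec B)) :=
    Scheme.Opens.fromSpecStalkOfMem_ι _ _ _
  obtain ⟨i, l, g₀, hl1, hl2, hl3⟩ :=
    exists_lift_stalk hR q a j hj hA B p D f₀ hf₀ y hyc hy2 ⊤ trivial (by rw [hD]; exact inf_le_right)
      t₀ ht₀
  obtain ⟨U, hyU, g, hg1, hg2⟩ := spread_out_of_isGermInjective' p (q i) l hl1
  refine ⟨i, U, hyU, g, hg2, ?_⟩
  let V : U.toScheme.Opens := (U.ι ≫ p) ⁻¹ᵁ genOpen R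
  let s₀ : V.toScheme ⟶ D.toScheme := IsOpenImmersion.lift D.ι (V.ι ≫ U.ι) (by
    rw [Scheme.Opens.range_ι, hD]
    rintro _ ⟨v, rfl⟩
    exact v.2)
  have hs₀ : s₀ ≫ D.ι = V.ι ≫ U.ι := IsOpenImmersion.lift_fac _ _ _
  let r₀ : V.toScheme ⟶ (q i ⁻¹ᵁ genOpen R : (X i).Opens).toScheme :=
    IsOpenImmersion.lift (q i ⁻¹ᵁ genOpen R).ι (V.ι ≫ g) (by
      rw [Scheme.Opens.range_ι]
      rintro _ ⟨v, rfl⟩
      change q i ((V.ι ≫ g) v) ∈ genOpen R
      rw [← Scheme.Hom.comp_apply, Category.assoc, hg2]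
      exact v.2)
  have hr₀ : r₀ ≫ (q i ⁻¹ᵁ genOpen R).ι = V.ι ≫ g := IsOpenImmersion.lift_fac _ _ _
  -- the generic point of `V`
  let τ' : Spec (Spec B).functionField ⟶ U.toScheme :=
    Spec.map ((Spec B).presheaf.stalkSpecializes (genericPoint_specializes y)) ≫
      U.fromSpecStalkOfMem y hyU
  have hτ' : τ' ≫ U.ι = (Spec B).fromSpecStalk (genericPoint (Spec B)) := by
    rw [Category.assoc, Scheme.Opens.fromSpecStalkOfMem_ι]
    exact Scheme.SpecMap_stalkSpecializes_fromSpecStalk (X := Spec B) (genericPoint_specializes y)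
  have hτ'pt : ∀ z, U.ι (τ' z) = genericPoint (Spec B) := by
    intro z
    have hz : z = IsLocalRing.closedPoint _ := Subsingleton.elim (α := PrimeSpectrum _) _ _
    rw [hz, ← Scheme.Hom.comp_apply, hτ', Scheme.fromSpecStalk_closedPoint]
  let τ : Spec (Spec B).functionField ⟶ V.toScheme := IsOpenImmersion.lift V.ι τ' (by
    rw [Scheme.Opens.range_ι]
    rintro _ ⟨z, rfl⟩
    change (U.ι ≫ p) (τ' z) ∈ genOpen R
    rw [Scheme.Hom.comp_apply, hτ'pt]
    rw [hD] at hgenD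
    exact hgenD)
  have hτ : τ ≫ V.ι = τ' := IsOpenImmersion.lift_fac _ _ _
  have hpt : ∀ z, U.ι (V.ι (τ z)) = genericPoint (Spec B) := by
    intro z
    have : V.ι (τ z) = τ' z := by rw [← Scheme.Hom.comp_apply, hτ]
    rw [this, hτ'pt]
  have hτdom : IsDominant τ := by
    constructor
    intro v
    have hv : τ (IsLocalRing.closedPoint (Spec B).functionField) ⤳ v := by
      rw [← V.ι.isOpenEmbedding.isInducing.specializes_iff,
        ← U.ι.isOpenEmbedding.isInducing.specializes_iff, hpt]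
      exact genericPoint_specializes _
    exact hv.mem_closed isClosed_closure (subset_closure ⟨_, rfl⟩)
  have key : r₀ ≫ j i = s₀ ≫ f₀ := by
    refine ext_of_isDominant_of_isSeparated a ?_ τ ?_
    · rw [Category.assoc, hj, ← Category.assoc, hr₀, Category.assoc, hg2, Category.assoc, hf₀,
        ← Category.assoc s₀, hs₀, Category.assoc]
    · have h1 : τ ≫ r₀ = g₀ := by
        rw [← cancel_mono (q i ⁻¹ᵁ genOpen R).ι, Category.assoc, hr₀, ← Category.assoc, hτ, ← hl2,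
          hg1, Category.assoc]
      have h2 : τ ≫ s₀ = t₀ := by
        rw [← cancel_mono D.ι, Category.assoc, hs₀, ← Category.assoc, hτ, hτ', ht₀]
      rw [← Category.assoc, h1, hl3, ← Category.assoc, h2]
  intro T t s r hs hr
  let t' : T ⟶ V.toScheme := IsOpenImmersion.lift V.ι t (by
    rw [Scheme.Opens.range_ι]
    rintro _ ⟨z, rfl⟩
    change (U.ι ≫ p) (t z) ∈ genOpen R
    rw [Scheme.Hom.comp_apply, ← Scheme.Hom.comp_apply t, ← hs]
    have h1 : ∀ x : Spec B, x ∈ D → x ∈ p ⁻¹ᵁ genOpen R := fun x hx => hD ▸ hx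
    exact h1 _ (s z).2)
  have ht' : t' ≫ V.ι = t := IsOpenImmersion.lift_fac _ _ _
  have h1 : t' ≫ s₀ = s := by
    rw [← cancel_mono D.ι, Category.assoc, hs₀, ← Category.assoc, ht', hs]
  have h2 : t' ≫ r₀ = r := by
    rw [← cancel_mono (q i ⁻¹ᵁ genOpen R).ι, Category.assoc, hr₀, ← Category.assoc, ht', hr]
  rw [← h1, ← h2, Category.assoc, key, Category.assoc]

/-- The weak Néron mapping property at a codimension one point of a smooth scheme, in terms of the open generic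
fibres. -/
theorem exists_open (hR : EtCoh.IsStrictlyHenselianLocalRing R)
    {ι : Type w} [Finite ι] {X : ι → Scheme.{u}} (q : ∀ i, X i ⟶ Spec (CommRingCat.of R))
    [∀ i, QuasiCompact (q i)] [∀ i, LocallyOfFiniteType (q i)]
    {A : Scheme.{u}} (a : A ⟶ Spec (CommRingCat.of R)) [IsSeparated a]
    (j : ∀ i, (q i ⁻¹ᵁ genOpen R : (X i).Opens).toScheme ⟶ A) [∀ i, IsOpenImmersion (j i)]
    (hj : ∀ i, j i ≫ a = (q i ⁻¹ᵁ genOpen R).ι ≫ q i)
    (hA : ∀ b : Spec (CommRingCat.of (FractionRing R)) ⟶ A, b ≫ a = Neron.genPt R →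
      ∃ (i : ι) (x : Spec (CommRingCat.of R) ⟶ X i)
        (x' : Spec (CommRingCat.of (FractionRing R)) ⟶ (q i ⁻¹ᵁ genOpen R : (X i).Opens).toScheme),
        x ≫ q i = 𝟙 _ ∧ x' ≫ (q i ⁻¹ᵁ genOpen R).ι = Neron.genPt R ≫ x ∧ x' ≫ j i = b)
    {Z : Scheme.{u}} (p : Z ⟶ Spec (CommRingCat.of R)) [Smooth p]
    (f₀ : (p ⁻¹ᵁ genOpen R : Z.Opens).toScheme ⟶ A) (hf₀ : f₀ ≫ a = (p ⁻¹ᵁ genOpen R).ι ≫ p)
    (y : Z) (hyc : p y = IsLocalRing.closedPoint R)
    (hy2 : ¬ (2 : WithBot ℕ∞) ≤ ringKrullDim (Z.presheaf.stalk y)) :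
    ∃ (i : ι) (U : Z.Opens) (_ : y ∈ U) (g : U.toScheme ⟶ X i), g ≫ q i = U.ι ≫ p ∧
      ∀ (T : Scheme.{u}) (t : T ⟶ U.toScheme) (s : T ⟶ (p ⁻¹ᵁ genOpen R : Z.Opens).toScheme)
        (r : T ⟶ (q i ⁻¹ᵁ genOpen R : (X i).Opens).toScheme),
        s ≫ (p ⁻¹ᵁ genOpen R).ι = t ≫ U.ι → r ≫ (q i ⁻¹ᵁ genOpen R).ι = t ≫ g →
          r ≫ j i = s ≫ f₀ := by
  have hnoeth : IsLocallyNoetherian Z := LocallyOfFiniteType.isLocallyNoetherian p
  have := (NormalLoc.stalk_of_smooth p y).1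
  obtain ⟨V, hyV, -, hV, hVd⟩ := NormalLoc.exists_isDomain_affine_nhds Z y ⊤ trivial
  let h : Spec Γ(Z, V) ⟶ Z := hV.fromSpec
  obtain ⟨y', hy'⟩ : ∃ y' : Spec Γ(Z, V), h y' = y := by
    have : y ∈ Set.range h := by rw [hV.range_fromSpec]; exact hyV
    exact this
  have hst : ¬ (2 : WithBot ℕ∞) ≤ ringKrullDim ((Spec Γ(Z, V)).presheaf.stalk y') := by
    subst hy'
    rwa [← ringKrullDim_eq_of_ringEquiv
      (CategoryTheory.asIso (h.stalkMap y')).commRingCatIsoToRingEquiv]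
  have hyc' : (h ≫ p) y' = IsLocalRing.closedPoint R := by
    rw [Scheme.Hom.comp_apply, hy', hyc]
  obtain ⟨i, U', hyU', g', hg', hg''⟩ := exists_open_affine hR q a j hj hA Γ(Z, V) (h ≫ p)
    (h ⁻¹ᵁ (p ⁻¹ᵁ genOpen R)) rfl ((h ∣_ (p ⁻¹ᵁ genOpen R)) ≫ f₀)
    (by rw [Category.assoc, hf₀, ← Category.assoc, morphismRestrict_ι, Category.assoc]) y' hyc' hst
  have he : (h.isoImage U').hom ≫ (h ''ᵁ U').ι = U'.ι ≫ h := Scheme.Hom.isoImage_hom_ι _ _
  refine ⟨i, h ''ᵁ U', ⟨y', hyU', hy'⟩, (h.isoImage U').inv ≫ g', ?_, ?_⟩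
  · have h3 : (h.isoImage U').inv ≫ U'.ι ≫ h = (h ''ᵁ U').ι := by
      rw [← he, Iso.inv_hom_id_assoc]
    rw [Category.assoc, hg', ← h3]
    simp only [Category.assoc]
  · intro T t s r hs hr
    have ht : (t ≫ (h.isoImage U').inv) ≫ U'.ι ≫ h = t ≫ (h ''ᵁ U').ι := by
      rw [← he]; simp
    let s' : T ⟶ (h ⁻¹ᵁ (p ⁻¹ᵁ genOpen R)).toScheme :=
      IsOpenImmersion.lift (h ⁻¹ᵁ (p ⁻¹ᵁ genOpen R)).ι ((t ≫ (h.isoImage U').inv) ≫ U'.ι) (by
        rw [Scheme.Opens.range_ι]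
        rintro _ ⟨v, rfl⟩
        change h (((t ≫ (h.isoImage U').inv) ≫ U'.ι) v) ∈ p ⁻¹ᵁ genOpen R
        rw [← Scheme.Hom.comp_apply, Category.assoc, ht, ← hs]
        exact (s v).2)
    have hs' : s' ≫ (h ⁻¹ᵁ (p ⁻¹ᵁ genOpen R)).ι = (t ≫ (h.isoImage U').inv) ≫ U'.ι :=
      IsOpenImmersion.lift_fac _ _ _
    have h1 := hg'' T (t ≫ (h.isoImage U').inv) s' r hs' (by rw [hr, Category.assoc])
    have h2 : s' ≫ (h ∣_ (p ⁻¹ᵁ genOpen R)) = s := by
      rw [← cancel_mono (p ⁻¹ᵁ genOpen R).ι, Category.assoc, morphismRestrict_ι, ← Category.assoc, hs',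
        Category.assoc, ht, hs]
    rw [h1, ← Category.assoc, h2]

/-- A generic point of the closed fibre has codimension at most one. -/
theorem not_two_le {Y : Scheme.{u}} (p : Y ⟶ Spec (CommRingCat.of R)) [LocallyOfFiniteType p]
    (y : Y) (hy : p y = IsLocalRing.closedPoint R)
    (hy' : ∀ y', y' ⤳ y → p y' = IsLocalRing.closedPoint R → y' = y) :
    ¬ (2 : WithBot ℕ∞) ≤ ringKrullDim (Y.presheaf.stalk y) := by
  have hnoeth : IsLocallyNoetherian Y := LocallyOfFiniteType.isLocallyNoetherian p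
  obtain ⟨U, hU, hzU, -⟩ := exists_isAffineOpen_mem_and_subset (x := y) (U := ⊤) trivial
  have : IsNoetherianRing Γ(Y, U) := IsLocallyNoetherian.component_noetherian ⟨U, hU⟩
  let j : Spec Γ(Y, U) ⟶ Y := hU.fromSpec
  obtain ⟨x, hx⟩ : ∃ x : Spec Γ(Y, U), j x = y := by
    have : y ∈ Set.range j := by rw [hU.range_fromSpec]; exact hzU
    exact this
  obtain ⟨φ, hφ⟩ := Spec.map_surjective (j ≫ p)
  obtain ⟨ϖ, hϖ⟩ := IsDiscreteValuationRing.exists_irreducible R
  have hmx : ∀ z : Spec Γ(Y, U), Spec.map φ z = IsLocalRing.closedPoint R ↔ φ.hom ϖ ∈ z.asIdeal := by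
    intro z
    constructor
    · intro hz
      have h1 : ϖ ∈ (IsLocalRing.closedPoint R).asIdeal := by
        change ϖ ∈ IsLocalRing.maximalIdeal R
        rw [IsLocalRing.mem_maximalIdeal]
        exact hϖ.not_isUnit
      rw [← hz] at h1
      exact h1
    · intro hz
      by_contra h1
      have h2 := eq_bot_of_ne_closedPoint R (Spec.map φ z) h1
      have h3 : ϖ ∈ (Spec.map φ z).asIdeal := hz
      rw [h2] at h3
      exact hϖ.ne_zero h3
  have hxc : Spec.map φ x = IsLocalRing.closedPoint R := by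
    rw [hφ, Scheme.Hom.comp_apply, hx, hy]
  have hP : x.asIdeal ∈ (Ideal.span {φ.hom ϖ}).minimalPrimes := by
    refine ⟨⟨x.isPrime, ?_⟩, ?_⟩
    · rw [Ideal.span_singleton_le_iff_mem]
      exact (hmx x).1 hxc
    · rintro Q ⟨hQ, hQ'⟩ hQx
      let z : Spec Γ(Y, U) := ⟨Q, hQ⟩
      have hzx : z ⤳ x := (PrimeSpectrum.le_iff_specializes _ _).1 hQx
      have hz : Spec.map φ z = IsLocalRing.closedPoint R := (hmx z).2 (by
        rwa [Ideal.span_singleton_le_iff_mem] at hQ')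
      have h1 : j z = y := by
        refine hy' _ (hx ▸ hzx.map j.continuous) ?_
        rw [← Scheme.Hom.comp_apply, ← hφ, hz]
      have h2 : z = x := j.isOpenEmbedding.injective (h1.trans hx.symm)
      exact le_of_eq (congrArg PrimeSpectrum.asIdeal h2).symm
  have hy2 : ¬ (2 : WithBot ℕ∞) ≤ ringKrullDim ((Spec Γ(Y, U)).presheaf.stalk x) := by
    let _ : Algebra Γ(Y, U) ((Spec Γ(Y, U)).presheaf.stalk x) := StructureSheaf.stalkAlgebra _ x
    have : IsLocalization.AtPrime ((Spec Γ(Y, U)).presheaf.stalk x) x.asIdeal :=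
      StructureSheaf.IsLocalization.to_stalk _ x
    rw [IsLocalization.AtPrime.ringKrullDim_eq_height x.asIdeal ((Spec Γ(Y, U)).presheaf.stalk x)]
    have h1 : x.asIdeal.height ≤ 1 :=
      Ideal.height_le_one_of_isPrincipal_of_mem_minimalPrimes (Ideal.span {φ.hom ϖ}) _ hP
    intro h2
    have h3 : (2 : ℕ∞) ≤ x.asIdeal.height := WithBot.coe_le_coe.1 h2
    exact absurd (h3.trans h1) (by norm_num)
  subst hx
  rwa [ringKrullDim_eq_of_ringEquiv
      (CategoryTheory.asIso (j.stalkMap x)).commRingCatIsoToRingEquiv]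

end Groth.Agent.Sga7.H479.WeakNeron
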