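import Groth.Agent.Sga7.H479.WeakNeronK

/-!
# The weak Néron mapping property at a local ring
-/

set_option autoImplicit false

universe u w

open CategoryTheory CategoryTheory.Limits AlgebraicGeometry

namespace Groth.Agent.Sga7.H479.WeakNeron

open Groth.Agent.Dix Groth.Agent.Dix.GenOpen

variable {R : Type u} [CommRing R] [IsDomain R] [IsDiscreteValuationRing R]
  (K : Type u) [Field K] [Algebra R K] [IsFractionRing R K]

/-- Points with values in the fraction field of the local ring of a smooth `R`-scheme at a point of codimension at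
most one of the closed fibre come from points of some chart with values in the local ring. -/
theorem exists_lift_stalk_frac (hR : EtCoh.IsStrictlyHenselianLocalRing R)
    {A : Scheme.{u}} (a : A ⟶ Spec (CommRingCat.of K)) [LocallyOfFiniteType a]
    {ι : Type w} [Finite ι] {X XK : ι → Scheme.{u}} (x : ∀ i, X i ⟶ Spec (CommRingCat.of R))
    [∀ i, QuasiCompact (x i)]
    (jX : ∀ i, XK i ⟶ X i) (xK : ∀ i, XK i ⟶ Spec (CommRingCat.of K))
    (hX : ∀ i, IsPullback (jX i) (xK i) (x i) (sp R K))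
    (φ : ∀ i, XK i ⟶ A) (hφ : ∀ i, φ i ≫ a = xK i) [∀ i, IsOpenImmersion (φ i)]
    (H : ∀ s : Spec (CommRingCat.of K) ⟶ A, s ≫ a = 𝟙 _ →
      ∃ i, ∃ t : Spec (CommRingCat.of R) ⟶ X i, t ≫ x i = 𝟙 _ ∧
        ∃ tK : Spec (CommRingCat.of K) ⟶ XK i, tK ≫ jX i = sp R K ≫ t ∧ tK ≫ φ i = s)
    {Z : Scheme.{u}} (z : Z ⟶ Spec (CommRingCat.of R)) [Smooth z]
    (ζ : Z) (hζ : z ζ = IsLocalRing.closedPoint R)
    (hζ2 : ¬ (2 : WithBot ℕ∞) ≤ ringKrullDim (Z.presheaf.stalk ζ))
    (F : Type u) [Field F] [Algebra (Z.presheaf.stalk ζ) F] [IsFractionRing (Z.presheaf.stalk ζ) F]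
    (P : Spec (CommRingCat.of F) ⟶ A)
    (hP : P ≫ a ≫ sp R K =
      Spec.map (CommRingCat.ofHom (algebraMap (Z.presheaf.stalk ζ) F)) ≫ Z.fromSpecStalk ζ ≫ z) :
    ∃ (i : ι) (l : Spec (Z.presheaf.stalk ζ) ⟶ X i) (l' : Spec (CommRingCat.of F) ⟶ XK i),
      l ≫ x i = Z.fromSpecStalk ζ ≫ z ∧
      l' ≫ jX i = Spec.map (CommRingCat.ofHom (algebraMap (Z.presheaf.stalk ζ) F)) ≫ l ∧
      l' ≫ φ i = P := by
  have hsp := isOpenImmersion_sp R K
  have hfo : ∀ i, IsOpenImmersion ((genIso (hX i)).inv ≫ φ i) := fun i => inferInstance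
  have hnoeth : IsLocallyNoetherian Z := LocallyOfFiniteType.isLocallyNoetherian z
  have := (NormalLoc.stalk_of_smooth z ζ).1
  obtain ⟨V, hyV, -, hV, hVd⟩ := NormalLoc.exists_isDomain_affine_nhds Z ζ ⊤ trivial
  let h : Spec Γ(Z, V) ⟶ Z := hV.fromSpec
  obtain ⟨y', hy'⟩ : ∃ y' : Spec Γ(Z, V), h y' = ζ := by
    have : ζ ∈ Set.range h := by rw [hV.range_fromSpec]; exact hyV
    exact this
  subst hy'
  let O := Z.presheaf.stalk (h y')
  let O' := (Spec Γ(Z, V)).presheaf.stalk y'
  let L := (Spec Γ(Z, V)).functionField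
  have hst : ¬ (2 : WithBot ℕ∞) ≤ ringKrullDim O' := by
    rwa [← ringKrullDim_eq_of_ringEquiv
      (CategoryTheory.asIso (h.stalkMap y')).commRingCatIsoToRingEquiv]
  have hyc' : (h ≫ z) y' = IsLocalRing.closedPoint R := by
    rw [Scheme.Hom.comp_apply, hζ]
  let ψ : O ⟶ L := h.stalkMap y' ≫ (Spec Γ(Z, V)).presheaf.stalkSpecializes (genericPoint_specializes y')
  obtain ⟨α, β, hα, hβ, hβα⟩ : ∃ (α : L ⟶ CommRingCat.of F) (β : CommRingCat.of F ⟶ L),
      ψ ≫ α = CommRingCat.ofHom (algebraMap O F) ∧ CommRingCat.ofHom (algebraMap O F) ≫ β = ψ ∧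
        β ≫ α = 𝟙 _ := by
    let _ : Algebra O L := ψ.hom.toAlgebra
    have hfrac : IsFractionRing O L := by
      let e : O ≃+* O' := (CategoryTheory.asIso (h.stalkMap y')).commRingCatIsoToRingEquiv
      have h1 : IsFractionRing O' L := inferInstance
      exact IsFractionRing.of_ringEquiv_left e (fun _ => rfl)
    let e : L ≃ₐ[O] F := IsLocalization.algEquiv (nonZeroDivisors O) L F
    refine ⟨CommRingCat.ofHom e.toAlgHom.toRingHom, CommRingCat.ofHom e.symm.toAlgHom.toRingHom, ?_, ?_, ?_⟩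
    · ext t
      exact e.commutes t
    · ext t
      exact e.symm.commutes t
    · ext t
      exact e.apply_symm_apply t
  have hst' : Spec.map (h.stalkMap y') ≫ Z.fromSpecStalk (h y') =
      (Spec Γ(Z, V)).fromSpecStalk y' ≫ h := Scheme.SpecMap_stalkMap_fromSpecStalk h
  have hgp : Spec.map ((Spec Γ(Z, V)).presheaf.stalkSpecializes (genericPoint_specializes y')) ≫
      (Spec Γ(Z, V)).fromSpecStalk y' = (Spec Γ(Z, V)).fromSpecStalk (genericPoint _) :=
    Scheme.SpecMap_stalkSpecializes_fromSpecStalk (X := Spec Γ(Z, V)) (genericPoint_specializes y')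
  have hψ : Spec.map ψ =
      Spec.map ((Spec Γ(Z, V)).presheaf.stalkSpecializes (genericPoint_specializes y')) ≫
        Spec.map (h.stalkMap y') := Spec.map_comp _ _
  have hβ' : Spec.map β ≫ Spec.map (CommRingCat.ofHom (algebraMap O F)) = Spec.map ψ := by
    rw [← Spec.map_comp, hβ]
  have hα' : Spec.map α ≫ Spec.map ψ = Spec.map (CommRingCat.ofHom (algebraMap O F)) := by
    rw [← Spec.map_comp, hα]
  have hβα' : Spec.map α ≫ Spec.map β = 𝟙 _ := by
    rw [← Spec.map_comp, hβα, Spec.map_id]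
  obtain ⟨i, l₀, g, h1, h2, h3⟩ := exists_lift_functionField hR x (a ≫ sp R K)
    (fun i => (genIso (hX i)).inv ≫ φ i)
    (fun i => by
      rw [Category.assoc, ← Category.assoc (φ i), hφ, ← (hX i).w, ← Category.assoc, genIso_inv])
    (fun b hb => by
      obtain ⟨i, t, ht, tK, h1, h2⟩ := H ((specIso R K).hom ≫ b) (by
        rw [← cancel_mono (sp R K), Category.assoc, Category.assoc, hb, specIso_hom_genPt,
          Category.id_comp])
      refine ⟨i, t, (specIso R K).inv ≫ tK ≫ (genIso (hX i)).hom, ht, ?_, ?_⟩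
      · rw [Category.assoc, Category.assoc, genIso_hom, h1, ← Category.assoc, specIso_inv_sp]
      · rw [Category.assoc, Category.assoc, Iso.hom_inv_id_assoc, h2, Iso.inv_hom_id_assoc])
    Γ(Z, V) (h ≫ z) y' hyc' hst (Spec.map β ≫ P) (by
      rw [Category.assoc, hP, ← Category.assoc (Spec.map β), hβ', hψ, Category.assoc,
        ← Category.assoc _ _ z, hst', Category.assoc, ← Category.assoc, hgp])
  refine ⟨i, Spec.map (inv (h.stalkMap y')) ≫ l₀,
    Spec.map α ≫ g ≫ (genIso (hX i)).inv, ?_, ?_, ?_⟩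
  · rw [Category.assoc, h1, ← Category.assoc _ h z, ← hst', Category.assoc, ← Category.assoc,
      ← Spec.map_comp, IsIso.hom_inv_id, Spec.map_id, Category.id_comp]
  · rw [Category.assoc, Category.assoc, genIso_inv, ← h2, ← hα', hψ, Category.assoc, Category.assoc,
      ← Category.assoc (Spec.map (h.stalkMap y')), ← Spec.map_comp, IsIso.inv_hom_id, Spec.map_id,
      Category.id_comp]
  · rw [Category.assoc, Category.assoc, h3, ← Category.assoc, hβα', Category.id_comp]

end Groth.Agent.Sga7.H479.WeakNeron
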